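import Cfsg.Agent.Lib.Helper16.BPNilDefs
import Cfsg.Agent.Lib.Helper16.BPNorm
import Cfsg.Agent.Lib.Helper16.PairRestrict
import Cfsg.Agent.Lib.Helper16.PairConj

/-!
# Project WAT (helper77): S4644, Watanabe's theorem on blocks with abelian defect group — definitions

`(P, e)` is a maximal Brauer pair of the block `B` of `G`, `P` abelian, `T = N_G(P, e)`.
For `Q ≤ P`:

* `subFQ p M P e Q` : the block `f_Q` of `C_G(Q)` with `(Q, f_Q) ≤ (P, e)` (S4655);
* `rk p M P e Q = l(f_Q)`, `kk p M P e Q = k(f_Q)`;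
* `orbW T Q v` : `1 / |orbit of v ∈ P under T ∩ C_G(Q)|`.
-/

set_option autoImplicit false

namespace Cfsg.Agent.Lib.Helper77.WAT

open Cfsg Cfsg.Agent.Lib.Helper16 Cfsg.Agent.Lib.Helper16.BP

universe u

variable {G : Type u} [Group G]

open scoped Classical in
/-- The block `f_Q` of `C_G(Q)` with `(Q, f_Q) ≤ (P, e)`. -/
noncomputable def subFQ (p : ℕ) (M : Ideal AlgInt) (P : Subgroup G)
    (e : Set (IrrCharacter (Subgroup.centralizer (P : Set G)))) (Q : Subgroup G) :
    Set (IrrCharacter (Subgroup.centralizer (Q : Set G))) :=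
  if h : ∃ f : Set (IrrCharacter (Subgroup.centralizer (Q : Set G))),
      IsPBlock M f ∧ SubpairLE p M Q f P e then h.choose else ∅

/-- `l(f_Q)` -/
noncomputable def rk (p : ℕ) (M : Ideal AlgInt) (P : Subgroup G)
    (e : Set (IrrCharacter (Subgroup.centralizer (P : Set G)))) (Q : Subgroup G) : ℕ :=
  blockRank p (subFQ p M P e Q)

/-- `k(f_Q)` -/
noncomputable def kk (p : ℕ) (M : Ideal AlgInt) (P : Subgroup G)
    (e : Set (IrrCharacter (Subgroup.centralizer (P : Set G)))) (Q : Subgroup G) : ℕ :=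
  Nat.card (subFQ p M P e Q)

/-- `1 / |orbit of v under T ∩ C_G(Q)|` -/
noncomputable def orbW (T P Q : Subgroup G) (v : P) : ℂ :=
  ((Nat.card {v' : P // ∃ t : G, t ∈ T ∧ t ∈ Subgroup.centralizer (Q : Set G) ∧
    t * (v : G) * t⁻¹ = (v' : G)} : ℂ))⁻¹

/-- `T` is the stabilizer `N_G(P, e)` of the pair. -/
def IsInertial (T P : Subgroup G) (e : Set (IrrCharacter (Subgroup.centralizer (P : Set G)))) :
    Prop :=
  ∀ t : G, t ∈ T ↔ conjPair t (⟨P, e⟩ : BrauerPairIdx G) = ⟨P, e⟩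

/-- the weight of the fusion class of `v` -/
noncomputable def fusW (p : ℕ) (M : Ideal AlgInt) (P : Subgroup G)
    (e : Set (IrrCharacter (Subgroup.centralizer (P : Set G)))) [Fintype G] (v : P) : ℂ :=
  ((Nat.card {v' : P // Fus p M P e (v : G) (v' : G)} : ℂ))⁻¹

end Cfsg.Agent.Lib.Helper77.WAT
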